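import Mathlib
import Cfsg.Prelude.Def_RootSubgroups

/-! Root involutions (Timmesfeld): common abbreviations for S5045 and neighbours. -/

set_option autoImplicit false
open Cfsg

namespace Cfsg.Agent.Helper83.RInv

variable {G : Type*} [Group G]

/-- the isolated vertices of the odd-order-product graph -/
abbrev Wset (D : Set G) : Set G := {w | Cfsg.IsIsolatedElem (Cfsg.OddAdj D) D w}

/-- the component of `a` -/
abbrev comp (D : Set G) (a : G) : Set G := Cfsg.elemComponentOf (Cfsg.OddAdj D) D a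

theorem orderOf_mul_swap (a b : G) : orderOf (a * b) = orderOf (b * a) := by
  have h := (MulAut.conj a⁻¹ : G ≃* G).orderOf_eq (a * b)
  rw [← h]
  congr 1
  simp [MulAut.conj_apply]

theorem oddAdj_symm {D : Set G} {a b : G} (h : Cfsg.OddAdj D a b) : Cfsg.OddAdj D b a :=
  ⟨h.2.1, h.1, h.2.2.1.symm, by rw [orderOf_mul_swap]; exact h.2.2.2⟩

theorem sq_eq_one_of_mem {D : Set G} (hD : Cfsg.IsRootInvolutionSet D) {d : G} (hd : d ∈ D) :
    d * d = 1 := by
  have h := hD.orderOf_eq d hd
  have := pow_orderOf_eq_one d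
  rw [h, pow_two] at this
  exact this

theorem inv_eq_of_mem {D : Set G} (hD : Cfsg.IsRootInvolutionSet D) {d : G} (hd : d ∈ D) :
    d⁻¹ = d := inv_eq_of_mul_eq_one_left (sq_eq_one_of_mem hD hd)

theorem ne_one_of_mem {D : Set G} (hD : Cfsg.IsRootInvolutionSet D) {d : G} (hd : d ∈ D) :
    d ≠ 1 := by
  rintro rfl
  have h := hD.orderOf_eq 1 hd
  simp at h

end Cfsg.Agent.Helper83.RInv
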