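import Mathlib
import Cfsg.Prelude.Def_RootSubgroups
import Cfsg.Agent.Helper83.RInv.Defs
import Cfsg.Agent.Helper67.RInvCORE

set_option autoImplicit false
open Cfsg

namespace Cfsg.Agent.Helper83.RInv

open Cfsg.Agent.Helper67.RInv (core_pow core_not_comm)

variable {G : Type*} [Group G]

/-- conjugates of `e` under powers of `e c` are in `D`. -/
theorem conj_zpow_mem {D : Set G} (hD : Cfsg.IsRootInvolutionSet D) {e : G} (he : e ∈ D) (t : G) (j : ℤ) :
    t ^ j * e * t ^ (-j) ∈ D := by
  have := hD.conj_mem e he (t ^ j)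
  rwa [← zpow_neg] at this

/-- the order of `e * (t^j e t^-j)` for `t = e c`, `e` inverting `t`: it divides the order of `t`. -/
theorem orderOf_conj_dvd {e c : G} (he : e * e = 1) (hc : c * c = 1) (j : ℤ) :
    orderOf (e * ((e * c) ^ j * e * (e * c) ^ (-j))) ∣ orderOf (e * c) := by
  -- e t^j e = t^(-j), so e * t^j e t^-j = t^(-j) t^(-j)
  have hinv : e * (e * c) * e⁻¹ = (e * c)⁻¹ := by
    have he' : e⁻¹ = e := inv_eq_of_mul_eq_one_left he
    have hc' : c⁻¹ = c := inv_eq_of_mul_eq_one_left hc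
    rw [mul_inv_rev, he', hc']
    calc e * (e * c) * e = (e * e) * c * e := by group
      _ = c * e := by rw [he, one_mul]
  have hz : ∀ j : ℤ, e * (e * c) ^ j * e⁻¹ = ((e * c) ^ j)⁻¹ := by
    intro j
    have := map_zpow (MulAut.conj e) (e * c) j
    simp only [MulAut.conj_apply] at this
    rw [this, hinv, inv_zpow]
  have he' : e⁻¹ = e := inv_eq_of_mul_eq_one_left he
  have key : e * ((e * c) ^ j * e * (e * c) ^ (-j)) = (e * c) ^ (-j) * (e * c) ^ (-j) := by
    have h1 := hz j
    rw [he'] at h1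
    calc e * ((e * c) ^ j * e * (e * c) ^ (-j)) = (e * (e * c) ^ j * e) * (e * c) ^ (-j) := by group
      _ = ((e * c) ^ j)⁻¹ * (e * c) ^ (-j) := by rw [h1]
      _ = _ := by rw [zpow_neg]
  rw [key, ← zpow_add]
  apply orderOf_dvd_of_pow_eq_one
  rw [← zpow_natCast, ← zpow_mul, mul_comm, zpow_mul, zpow_natCast, pow_orderOf_eq_one, one_zpow]


theorem pow_four_of_not_oddAdj {D : Set G} (hD : Cfsg.IsRootInvolutionSet D) {a r : G}
    (ha : a ∈ D) (hr : r ∈ D) (h : ¬ Cfsg.OddAdj D a r) : (a * r) ^ 4 = 1 := by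
  have ha2 := sq_eq_one_of_mem hD ha
  have hr2 := sq_eq_one_of_mem hD hr
  by_cases har : a = r
  · subst har
    rw [ha2, one_pow]
  rcases hD.pair a ha r hr with hc | ho | ⟨h4, -⟩
  · have : (a * r) ^ 2 = 1 := by
      rw [pow_two]
      calc a * r * (a * r) = a * (r * a) * r := by group
        _ = a * (a * r) * r := by rw [hc]
        _ = (a * a) * (r * r) := by group
        _ = 1 := by rw [ha2, hr2, one_mul]
    calc (a * r) ^ 4 = ((a * r) ^ 2) ^ 2 := by rw [← pow_mul]
      _ = 1 := by rw [this, one_pow]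
  · exact absurd ⟨ha, hr, har, ho⟩ h
  · rw [← h4]; exact pow_orderOf_eq_one _

/-- (LB) the key step. -/
theorem lemB {D : Set G} (hD : Cfsg.IsRootInvolutionSet D) {a e c : G} (ha : a ∈ D)
    (he : e ∈ Cfsg.productPartners D a) (hec : Cfsg.OddAdj D e c)
    (hH : ∀ c', Cfsg.OddAdj D e c' → ¬ Cfsg.OddAdj D a c') : Cfsg.OddAdj D (e * a) c := by
  obtain ⟨⟨heD, hea, hne_ea⟩, heaD⟩ := he
  obtain ⟨-, hcD, hne_ec, hodd⟩ := hec
  have ha2 := sq_eq_one_of_mem hD ha
  have he2 := sq_eq_one_of_mem hD heD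
  have hc2 := sq_eq_one_of_mem hD hcD
  have hae : a * e = e * a := hea.symm
  have hH' : ∀ j : ℤ, (a * ((e * c) ^ j * e * (e * c) ^ (-j))) ^ 4 = 1 := by
    intro j
    have hrD := conj_zpow_mem hD heD (e * c) j
    apply pow_four_of_not_oddAdj hD ha hrD
    by_cases hre : e = (e * c) ^ j * e * (e * c) ^ (-j)
    · rw [← hre]
      rintro ⟨-, -, hne, hod⟩
      have : (a * e) ^ 2 = 1 := by
        rw [pow_two]
        calc a * e * (a * e) = a * (e * a) * e := by group
          _ = a * (a * e) * e := by rw [hae]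
          _ = (a * a) * (e * e) := by group
          _ = 1 := by rw [ha2, he2, one_mul]
      have hd : orderOf (a * e) ∣ 2 := orderOf_dvd_of_pow_eq_one this
      have hle : orderOf (a * e) ≤ 2 := Nat.le_of_dvd (by norm_num) hd
      have h1 : orderOf (a * e) = 1 := by
        rcases hod with ⟨k, hk⟩
        interval_cases h : orderOf (a * e) <;> omega
      rw [orderOf_eq_one_iff] at h1
      apply hne
      calc a = a * (e * e) := by rw [he2, mul_one]
        _ = (a * e) * e := by group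
        _ = e := by rw [h1, one_mul]
    · apply hH
      refine ⟨heD, hrD, hre, ?_⟩
      have hdv := orderOf_conj_dvd he2 hc2 j
      exact Odd.of_dvd_nat hodd hdv
  have hpow := core_pow ha2 he2 hc2 hae hodd hH'
  have hnc := core_not_comm ha2 he2 hc2 hae hodd hH' hne_ec
  have hrew : e * a * c = a * e * c := by rw [hae]
  have hne : e * a ≠ c := by
    intro h
    apply hnc
    rw [hae, h, hc2, one_pow]
  refine ⟨heaD, hcD, hne, ?_⟩
  rcases hD.pair (e * a) heaD c hcD with hcm | ho | ⟨h4, -⟩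
  · exfalso
    apply hnc
    rw [← hrew, pow_two]
    have hea2 := sq_eq_one_of_mem hD heaD
    calc e * a * c * (e * a * c) = e * a * (c * (e * a)) * c := by group
      _ = e * a * ((e * a) * c) * c := by rw [hcm]
      _ = (e * a * (e * a)) * (c * c) := by group
      _ = 1 := by rw [hea2, hc2, one_mul]
  · exact ho
  · exfalso
    rw [hrew] at h4
    have hd : orderOf (a * e * c) ∣ 2 * orderOf (e * c) := orderOf_dvd_of_pow_eq_one hpow
    rw [h4] at hd
    rcases hodd with ⟨k, hk⟩
    rw [hk] at hd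
    omega


theorem rtg_symm {D : Set G} {a b : G} (h : Relation.ReflTransGen (Cfsg.OddAdj D) a b) :
    Relation.ReflTransGen (Cfsg.OddAdj D) b a := by
  induction h with
  | refl => exact Relation.ReflTransGen.refl
  | tail _ hbc ih => exact Relation.ReflTransGen.head (oddAdj_symm hbc) ih

theorem exists_neighbour_of_comp {D : Set G} {a : G} (h : ∃ a' ∈ comp D a, a' ≠ a) :
    ∃ a', Cfsg.OddAdj D a a' := by
  obtain ⟨a'', ⟨-, hr⟩, hne⟩ := h
  rcases Relation.ReflTransGen.cases_head hr with h | ⟨a', h1, -⟩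
  · exact absurd h.symm hne
  · exact ⟨a', h1⟩

theorem exists_neighbour_of_not_isolated {D : Set G} {e : G} (he : e ∈ D) (h : e ∉ Wset D) :
    ∃ c, Cfsg.OddAdj D e c := by
  by_contra hcon
  push_neg at hcon
  apply h
  refine ⟨he, fun b => ⟨hcon b, fun hb => hcon b (oddAdj_symm hb)⟩⟩

/-- (M6) -/
theorem productPartners_subset {D : Set G} (hD : Cfsg.IsRootInvolutionSet D) {a : G} (ha : a ∈ D)
    (hcomp : ∃ a' ∈ comp D a, a' ≠ a) :
    Cfsg.productPartners D a ⊆ comp D a ∪ Wset D := by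
  intro e he
  by_cases heW : e ∈ Wset D
  · exact Or.inr heW
  left
  have heD : e ∈ D := he.1.1
  refine ⟨heD, ?_⟩
  obtain ⟨a', haa'⟩ := exists_neighbour_of_comp hcomp
  obtain ⟨c, hec⟩ := exists_neighbour_of_not_isolated heD heW
  by_cases h1 : ∃ c', Cfsg.OddAdj D e c' ∧ Cfsg.OddAdj D a c'
  · obtain ⟨c', h1e, h1a⟩ := h1
    exact Relation.ReflTransGen.head h1a (Relation.ReflTransGen.single (oddAdj_symm h1e))
  have hH : ∀ c', Cfsg.OddAdj D e c' → ¬ Cfsg.OddAdj D a c' := fun c' h h' => h1 ⟨c', h, h'⟩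
  have hfc := lemB hD ha he hec hH
  by_cases h2 : ∃ a'', Cfsg.OddAdj D a a'' ∧ Cfsg.OddAdj D e a''
  · obtain ⟨a'', h2a, h2e⟩ := h2
    exact Relation.ReflTransGen.head h2a (Relation.ReflTransGen.single (oddAdj_symm h2e))
  have hH2 : ∀ a'', Cfsg.OddAdj D a a'' → ¬ Cfsg.OddAdj D e a'' := fun a'' h h' => h2 ⟨a'', h, h'⟩
  obtain ⟨⟨_, hea, hne⟩, heaD⟩ := he
  have ha_pp : a ∈ Cfsg.productPartners D e := ⟨⟨ha, hea.symm, hne.symm⟩, by rw [← hea]; exact heaD⟩
  have hfa := lemB hD heD ha_pp haa' hH2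
  rw [← hea] at hfa
  -- a ~ a' ~ e*a ~ c ~ e
  exact Relation.ReflTransGen.head haa'
    (Relation.ReflTransGen.head (oddAdj_symm hfa)
      (Relation.ReflTransGen.head hfc (Relation.ReflTransGen.single (oddAdj_symm hec))))

/-- (M5) -/
theorem commutator_mem {D : Set G} (hD : Cfsg.IsRootInvolutionSet D) {a b : G} (ha : a ∈ D) (hb : b ∈ D)
    (hca : ∃ a' ∈ comp D a, a' ≠ a) (hcb : ∃ b' ∈ comp D b, b' ≠ b) (hne : comp D a ≠ comp D b) :
    a * b * a⁻¹ * b⁻¹ ∈ Subgroup.closure (Wset D) := by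
  have ha2 := sq_eq_one_of_mem hD ha
  have hb2 := sq_eq_one_of_mem hD hb
  have hai := inv_eq_of_mem hD ha
  have hbi := inv_eq_of_mem hD hb
  have hcomp_eq : Relation.ReflTransGen (Cfsg.OddAdj D) a b → comp D a = comp D b := by
    intro h
    ext x
    constructor
    · rintro ⟨hx, hr⟩
      exact ⟨hx, (rtg_symm h).trans hr⟩
    · rintro ⟨hx, hr⟩
      exact ⟨hx, h.trans hr⟩
  rcases hD.pair a ha b hb with hc | ho | ⟨h4, hz⟩
  · have : a * b * a⁻¹ * b⁻¹ = 1 := by
      rw [hc]; group
    rw [this]; exact Subgroup.one_mem _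
  · exfalso
    apply hne
    by_cases hab : a = b
    · rw [hab]
    · exact hcomp_eq (Relation.ReflTransGen.single ⟨ha, hb, hab, ho⟩)
  · -- z = (ab)^2
    have hz_eq : a * b * a⁻¹ * b⁻¹ = (a * b) ^ 2 := by
      rw [hai, hbi, pow_two]; group
    rw [hz_eq]
    have h44 : (a * b) ^ 4 = 1 := by rw [← h4]; exact pow_orderOf_eq_one _
    set z := (a * b) ^ 2 with hzdef
    have hzz : z * z = 1 := by
      rw [hzdef, ← pow_add]; exact h44
    have hzi : z⁻¹ = z := inv_eq_of_mul_eq_one_left hzz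
    have hab_inv : (a * b)⁻¹ = b * a := by rw [mul_inv_rev, hai, hbi]
    have hconj : a * z * a⁻¹ = z := by
      rw [hzdef, ← conj_pow]
      have : a * (a * b) * a⁻¹ = (a * b)⁻¹ := by
        rw [hab_inv, hai, ← mul_assoc, ha2, one_mul]
      rw [this, inv_pow, ← hzdef, hzi]
    have hza : z * a = a * z := by
      have := mul_inv_eq_iff_eq_mul.mp hconj
      exact this.symm
    have hcz_a : Commute z a := hza
    have hcz_ab : Commute z (a * b) := by
      rw [hzdef]; exact (Commute.refl (a * b)).pow_left 2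
    have hcz_b : Commute z b := by
      have := hcz_a.inv_right.mul_right hcz_ab
      rwa [inv_mul_cancel_left] at this
    have hzb : z * b = b * z := hcz_b
    have hzaD : z * a ∈ D := by
      have := hD.conj_mem a ha (a * b)
      have h2 : a * b * a * (a * b)⁻¹ = z * a := by
        rw [hab_inv, hzdef, pow_two]; group
      rw [← h2]; exact this
    have hzbD : z * b ∈ D := by
      have := hD.conj_mem b hb a
      have h2 : a * b * a⁻¹ = z * b := by
        rw [hzdef, pow_two, hai]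
        calc a * b * a = a * b * a * (b * b) := by rw [hb2, mul_one]
          _ = a * b * (a * b) * b := by group
      rw [← h2]; exact this
    have hz_ne_a : z ≠ a := by
      intro h
      apply ne_one_of_mem hD hzaD
      rw [h, ha2]
    have hz_ne_b : z ≠ b := by
      intro h
      apply ne_one_of_mem hD hzbD
      rw [h, hb2]
    have hzA : z ∈ Cfsg.productPartners D a := ⟨⟨hz, hza, hz_ne_a⟩, hzaD⟩
    have hzB : z ∈ Cfsg.productPartners D b := ⟨⟨hz, hzb, hz_ne_b⟩, hzbD⟩
    rcases productPartners_subset hD ha hca hzA with h1 | h1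
    · rcases productPartners_subset hD hb hcb hzB with h2 | h2
      · exfalso
        apply hne
        exact hcomp_eq (h1.2.trans (rtg_symm h2.2))
      · exact Subgroup.subset_closure h2
    · exact Subgroup.subset_closure h1

end Cfsg.Agent.Helper83.RInv
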